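import Cfsg.Agent.Lib.KnownB.TypeM24Unique.Kernel
import Cfsg.Agent.Lib.KnownB.TypeM24Unique.Top
import Cfsg.Agent.Lib.KnownB.TypeM23Unique.Main
import Cfsg.Agent.Lib.KnownB.TypeM23.Main
import Cfsg.Agent.Lib.Spor.Fi23.OutFrame

/-!
In type M(24) the partners of a member generate its centraliser; the joint centraliser of two commuting
members is generated by their common partners and the member.
-/

set_option autoImplicit false

namespace CfsgLib.KnownB.M24PairCent

open Cfsg CfsgLib.ThreeTransp CfsgLib.Involutions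
open CfsgLib.KnownB.TypeM22 CfsgLib.KnownB.TypeM23 CfsgLib.KnownB.TypeM24.Unique
open scoped commutatorElement

universe u

variable {G : Type u} [Group G] [Finite G] {D : Set G}

/-- The partners of a member generate its centraliser. -/
theorem centralizer_eq (S : Setting24 D) {d : G} (hd : d ∈ D) :
    Subgroup.closure (nb D d) = Subgroup.centralizer ({d} : Set G) := by
  refine le_antisymm (closure_nb_le D d) fun x hx => ?_
  have hxd : Commute x d := Subgroup.mem_centralizer_singleton_iff.1 hx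
  have hW := S.weak
  have hS : MulAut.conj x '' nb D d = nb D d := by
    ext z
    constructor
    · rintro ⟨y, hy, rfl⟩; exact TypeM22.conj_nb hW hxd hy
    · intro hz
      refine ⟨x⁻¹ * z * x, ?_, by simp [mul_assoc]⟩
      have := TypeM22.conj_nb hW hxd.inv_left hz
      rwa [inv_inv] at this
  obtain ⟨φ, hφ⟩ : ∃ φ : Qd D d ≃* Qd D d, ∀ y ∈ Subgroup.closure (nb D d), φ (qd D d y) = qd D d (x * y * x⁻¹) :=
    ⟨CfsgLib.Spor.FischerTypes.quotCongr (MulAut.conj x) hS, fun y hy => by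
      rw [show qd D d y = _ from qd_mk ⟨y, hy⟩]
      exact (qd_mk _).symm⟩
  have SQ := S.quot hd
  obtain ⟨e, -⟩ := TypeM23.Unique.exists_iso_fi23 SQ.group SQ.prim SQ.typ
  obtain ⟨c, hc⟩ := CfsgLib.Spor.Fi23.Auto.mem_inn ((e.symm.trans φ).trans e)
  obtain ⟨k, hk, hke⟩ := qd_surj (e.symm c)
  have hmap : ∀ q, φ q = qd D d k * q * (qd D d k)⁻¹ := fun q => e.injective (by
    have := congrArg (fun f : MulAut Cfsg.Spor.Fi23 => f (e q)) hc
    simp only [MulAut.conj_apply, MulEquiv.trans_apply, MulEquiv.symm_apply_apply] at this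
    rw [map_mul, map_mul, map_inv, hke, MulEquiv.apply_symm_apply, ← this])
  have hfix : ∀ y ∈ nb D d, Commute (k⁻¹ * x) y := fun y hy => mul_inv_eq_iff_eq_mul.1 (by
    have hkd : Commute k d := commute_closure_nb hk
    refine S.qd_inj hd (TypeM22.conj_nb hW (hkd.inv_left.mul_left hxd) hy) hy ?_
    have h1 := TypeM22.conj_nb hW hxd hy
    rw [show k⁻¹ * x * y * (k⁻¹ * x)⁻¹ = k⁻¹ * (x * y * x⁻¹) * k⁻¹⁻¹ by group, qd_conj (inv_mem hk) (mem_H h1),
      ← hφ y (mem_H hy), hmap, qd_inv hk]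
    group)
  rcases eq_one_or hW S.center S.lineProp hd (((commute_closure_nb hk).inv_left).mul_left hxd) hfix with r | r
  · rw [← inv_mul_eq_one.1 r]; exact hk
  · rw [show x = k * d by rw [← r, mul_inv_cancel_left]]
    exact mul_mem hk (S.self_mem hd)

/-- The image of the joint centraliser is the centraliser of the image. -/
theorem qd_mem_centralizer (S : Setting24 D) {d b x : G} (hd : d ∈ D) (hb : b ∈ nb D d)
    (hxd : Commute x d) (hxb : Commute x b) :
    x ∈ Subgroup.closure (nb D d) ∧ qd D d x ∈ Subgroup.closure (nb (Dq D d) (qd D d b)) := by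
  have hx : x ∈ Subgroup.closure (nb D d) := by
    rw [centralizer_eq S hd]
    exact Subgroup.mem_centralizer_singleton_iff.2 hxd.eq
  refine ⟨hx, ?_⟩
  rw [(S.quot hd).centralizer_eq (qd_mem hb), Subgroup.mem_centralizer_singleton_iff]
  rw [← qd_mul hx (mem_H hb), ← qd_mul (mem_H hb) hx, hxb.eq]

theorem pair_closure (S : Setting24 D) {d b : G} (hd : d ∈ D) (hb : b ∈ nb D d) {k : Qd D d}
    (hk : k ∈ Subgroup.closure (nb (Dq D d) (qd D d b))) :
    ∃ x ∈ Subgroup.closure (pnb D d b), qd D d x = k := by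
  induction hk using Subgroup.closure_induction with
  | mem z hz =>
    obtain ⟨y, hy, rfl⟩ := S.pair_lift hd hb hz
    exact ⟨y, Subgroup.subset_closure hy, rfl⟩
  | one => exact ⟨1, one_mem _, qd_one⟩
  | mul a c _ _ ha hc =>
    obtain ⟨x, hx, rfl⟩ := ha
    obtain ⟨y, hy, rfl⟩ := hc
    exact ⟨x * y, mul_mem hx hy, qd_mul (pnb_le hx) (pnb_le hy)⟩
  | inv a _ ha =>
    obtain ⟨x, hx, rfl⟩ := ha
    exact ⟨x⁻¹, inv_mem hx, qd_inv (pnb_le hx)⟩

theorem pnb_le_centralizer {d b : G} :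
    Subgroup.closure (pnb D d b) ≤ Subgroup.centralizer ({d, b} : Set G) :=
  (Subgroup.closure_le _).2 fun y hy => Subgroup.mem_centralizer_iff.2 (by
    rintro z (rfl | rfl)
    exacts [hy.1.2.2.eq, hy.2.2.2.eq])

/-- The member lies in the subgroup generated by the common partners, if the members are outside the derived group. -/
theorem self_mem_pnb (S : Setting24 D) (hodd : ∀ y ∈ D, y ∉ commutator G) {d b : G} (hd : d ∈ D) (hb : b ∈ nb D d) :
    d ∈ Subgroup.closure (pnb D d b) := by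
  obtain ⟨k, hk⟩ : ∃ k, k ∈ nb (Dq D d) (qd D d b) := by
    obtain ⟨a, ha, c, hc, hac, cac⟩ := pair_of_typeM23 (S.typ_all hd)
    obtain ⟨g, hg⟩ := (S.quot hd).cls.trans a ha (qd D d b) (qd_mem hb)
    exact ⟨g * c * g⁻¹, hg ▸ (S.quot hd).weak.nb_conj g ⟨hc, hac.symm, cac⟩⟩
  obtain ⟨y, hy, rfl⟩ := S.pair_lift hd hb hk
  have hlift : ∀ q ∈ ⁅Subgroup.closure (nb (Dq D d) (qd D d b)), Subgroup.closure (nb (Dq D d) (qd D d b))⁆,
      ∃ x ∈ Subgroup.closure (pnb D d b), x ∈ commutator G ∧ qd D d x = q := by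
    intro q hq
    rw [Subgroup.commutator_def] at hq
    induction hq using Subgroup.closure_induction with
    | mem q hq =>
      obtain ⟨u, hu, v, hv, rfl⟩ := hq
      obtain ⟨x, hx, rfl⟩ := pair_closure S hd hb hu
      obtain ⟨z, hz, rfl⟩ := pair_closure S hd hb hv
      refine ⟨⁅x, z⁆, ?_, Subgroup.commutator_mem_commutator (Subgroup.mem_top _) (Subgroup.mem_top _), ?_⟩
      · rw [commutatorElement_def]; exact mul_mem (mul_mem (mul_mem hx hz) (inv_mem hx)) (inv_mem hz)
      · rw [commutatorElement_def, commutatorElement_def, qd_mul (pnb_le (mul_mem (mul_mem hx hz) (inv_mem hx)))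
          (pnb_le (inv_mem hz)), qd_conj (pnb_le hx) (pnb_le hz), qd_inv (pnb_le hz)]
    | one => exact ⟨1, one_mem _, one_mem _, qd_one⟩
    | mul a c _ _ ha hc =>
      obtain ⟨x, hx, hx', rfl⟩ := ha
      obtain ⟨z, hz, hz', rfl⟩ := hc
      exact ⟨x * z, mul_mem hx hz, mul_mem hx' hz', qd_mul (pnb_le hx) (pnb_le hz)⟩
    | inv a _ ha =>
      obtain ⟨x, hx, hx', rfl⟩ := ha
      exact ⟨x⁻¹, inv_mem hx, inv_mem hx', qd_inv (pnb_le hx)⟩
  obtain ⟨x, hx, hxL, hxe⟩ := hlift (qd D d y) (by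
    have h1 : (⟨qd D d y, Subgroup.subset_closure hk⟩ : Subgroup.closure (nb (Dq D d) (qd D d b))) ∈
        commutator (Subgroup.closure (nb (Dq D d) (qd D d b))) := by
      rw [(S.quot hd).perfect (qd_mem hb)]; trivial
    have h2 := Subgroup.mem_map_of_mem (Subgroup.closure (nb (Dq D d) (qd D d b))).subtype h1
    rwa [commutator_def, Subgroup.map_commutator, ← MonoidHom.range_eq_map, Subgroup.range_subtype] at h2)
  have hxy : x⁻¹ * y ∈ Subgroup.closure (pnb D d b) := mul_mem (inv_mem hx) (Subgroup.subset_closure hy)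
  rcases S.center_cases hd (pnb_le hxy) (by
    rw [qd_mul (pnb_le (inv_mem hx)) (mem_H hy.1), qd_inv (pnb_le hx), hxe, inv_mul_cancel]) with r | r
  · exact absurd (inv_mul_eq_one.1 r ▸ hxL) (hodd y hy.1.1)
  · rwa [r] at hxy

end CfsgLib.KnownB.M24PairCent
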