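import Cfsg.Agent.Lib.KnownB.M24PairCent.Pair
import Cfsg.Agent.Lib.KnownB.TypeM22Unique.Main
import Cfsg.Agent.Lib.KnownB.TypeM24Unique.Main
import Cfsg.Agent.Lib.Spor.Fi22Out.Main
import Cfsg.Agent.Lib.Spor.Fi22.Order
import Cfsg.Agent.Lib.Spor.Fi22.Simple
import Cfsg.Agent.Lib.Components.FStar

/-!
The centraliser, in the derived group of a group of type M(24), of a product of two commuting members.
-/

set_option autoImplicit false
set_option linter.style.haveILetI false

namespace CfsgLib.KnownB.M24PairCent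

open Cfsg CfsgLib.ThreeTransp CfsgLib.Involutions
open CfsgLib.KnownB.TypeM22 CfsgLib.KnownB.TypeM23 CfsgLib.KnownB.TypeM24.Unique
open scoped commutatorElement

universe u

variable {G : Type u} [Group G] [Finite G] {D : Set G}

/-- The members lie outside the derived group, which has index two. -/
theorem derived_facts (hD : IsThreeTranspositionGroup D) (hp : IsPrimitiveUnderConj D) (ht : IsOfTypeM24 G D) :
    (∀ y ∈ D, y ∉ commutator G) ∧ (commutator G).index = 2 := by
  obtain ⟨e, he⟩ := TypeM24.exists_iso_fi24 hD hp ht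
  have hmap : (commutator G).map e.toMonoidHom = commutator Cfsg.Spor.Fi24 := by
    rw [commutator_def, Subgroup.map_commutator, Subgroup.map_top_of_surjective _ e.surjective, commutator_def]
  refine ⟨fun y hy hyc => ?_, ?_⟩
  · have h1 : e y ∈ commutator Cfsg.Spor.Fi24 := hmap ▸ Subgroup.mem_map_of_mem e.toMonoidHom hyc
    have h2 := MonoidHom.mem_ker.1 (Abelianization.commutator_subset_ker CfsgLib.Spor.Fi24.parity h1)
    obtain ⟨w, hw⟩ := isConj_iff.1 (show e y ∈ conjugatesOf (CfsgLib.Spor.Fi24.gen .l) from he ▸ ⟨y, hy, rfl⟩)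
    rw [← hw, map_mul, map_mul, map_inv, CfsgLib.Spor.Fi24.parity_gen] at h2
    simp at h2
  · rw [← Subgroup.index_map_equiv (H := commutator G) e]
    exact hmap ▸ CfsgLib.Spor.Fi24.index_commutator

/-- The automorphisms of Fi22. -/
theorem card_mulAut_fi22 : Nat.card (MulAut Cfsg.Spor.Fi22) = 2 * Nat.card Cfsg.Spor.Fi22 := by
  obtain ⟨hs, -⟩ := CfsgLib.Spor.Fi22.isFi22
  haveI := hs
  haveI : Finite Cfsg.Spor.Fi22 := CfsgLib.Spor.Fi22.finite
  have hz : Subgroup.center Cfsg.Spor.Fi22 = ⊥ := (hs.eq_bot_or_eq_top_of_normal _ inferInstance).resolve_right fun h => by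
    have hp := IsSimpleGroup.comm_iff_isSolvable (G := Cfsg.Spor.Fi22)
    have hc : ∀ a b : Cfsg.Spor.Fi22, a * b = b * a := fun a b =>
      (Subgroup.mem_center_iff.1 (h ▸ Subgroup.mem_top a) b).symm
    letI : CommGroup Cfsg.Spor.Fi22 := { (inferInstance : Group Cfsg.Spor.Fi22) with mul_comm := hc }
    have := (IsSimpleGroup.prime_card (α := Cfsg.Spor.Fi22))
    rw [CfsgLib.Spor.Fi22.natCard] at this
    exact absurd (this.eq_two_or_odd) (by norm_num)
  have hinj : Function.Injective (MulAut.conj : Cfsg.Spor.Fi22 →* MulAut Cfsg.Spor.Fi22) := by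
    rw [← MonoidHom.ker_eq_bot_iff, eq_bot_iff, ← hz]
    intro g hg
    refine Subgroup.mem_center_iff.2 fun w => ?_
    have h1 := congrArg (fun f : MulAut Cfsg.Spor.Fi22 => f w) (MonoidHom.mem_ker.1 hg)
    simp only [MulAut.conj_apply, MulAut.one_apply] at h1
    exact (mul_inv_eq_iff_eq_mul.1 h1).symm
  rw [Subgroup.card_eq_card_quotient_mul_card_subgroup (Cfsg.Inn Cfsg.Spor.Fi22),
    ← Nat.card_congr (MonoidHom.ofInjective hinj).toEquiv]
  exact congrArg (· * _) (CfsgLib.SporOut.Fi22.card_out CfsgLib.Spor.Fi22.natCard)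

omit [Finite G] in
/-- A group acts on the central quotient of a perfect normal subgroup with kernel its centraliser. -/
theorem exists_aut_hom {X : Type*} [Group X] (N : Subgroup G) [N.Normal] (hperf : commutator ↥N = ⊤)
    (E : ↥N ⧸ Subgroup.center ↥N ≃* X) :
    ∃ ψ : G →* MulAut X, ψ.ker = Subgroup.centralizer (N : Set G) := by
  let φ : G →* MulAut (↥N ⧸ Subgroup.center ↥N) :=
    MonoidHom.mk' (fun x => CfsgLib.Spor.FischerTypes.centerQuotCongr (MulAut.conjNormal x)) fun x y =>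
      MulEquiv.ext fun q => by
        induction q using QuotientGroup.induction_on with | H k => ?_
        show QuotientGroup.mk (MulAut.conjNormal (x * y) k) =
          QuotientGroup.mk (MulAut.conjNormal x (MulAut.conjNormal y k))
        rw [map_mul, MulAut.mul_apply]
  have hφ : ∀ x k, φ x (QuotientGroup.mk k) = QuotientGroup.mk (MulAut.conjNormal x k) := fun _ _ => rfl
  refine ⟨_, (MonoidHom.ker_mulEquiv_comp φ (MulAut.congr E)).trans ?_⟩
  ext x
  rw [MonoidHom.mem_ker]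
  constructor
  · intro hx
    have hc : ∀ k : ↥N, MulAut.conjNormal x k * k⁻¹ ∈ Subgroup.center ↥N := fun k => by
      rw [← QuotientGroup.eq_one_iff, QuotientGroup.mk_mul, QuotientGroup.mk_inv, ← hφ, hx]
      exact mul_inv_cancel _
    let δ : ↥N →* ↥(Subgroup.center ↥N) :=
      MonoidHom.mk' (fun k => ⟨_, hc k⟩) fun k l => Subtype.ext (by
        show MulAut.conjNormal x (k * l) * (k * l)⁻¹ =
          MulAut.conjNormal x k * k⁻¹ * (MulAut.conjNormal x l * l⁻¹)
        rw [mul_assoc (MulAut.conjNormal x k), (Subgroup.mem_center_iff.1 (hc l) k⁻¹), map_mul, mul_inv_rev]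
        simp only [mul_assoc])
    refine Subgroup.mem_centralizer_iff.2 fun k hk => (mul_inv_eq_iff_eq_mul.1 ?_).symm
    have hle : commutator ↥N ≤ δ.ker := by
      rw [commutator_def, Subgroup.commutator_le]
      intro a _ c _
      rw [MonoidHom.mem_ker, map_commutatorElement, commutatorElement_eq_one_iff_mul_comm]
      exact Subtype.ext (Subgroup.mem_center_iff.1 (δ c).2 _)
    have h1 : δ ⟨k, hk⟩ = 1 := MonoidHom.mem_ker.1 (hle (hperf.symm ▸ Subgroup.mem_top _))
    have h2 : MulAut.conjNormal x (⟨k, hk⟩ : ↥N) * (⟨k, hk⟩ : ↥N)⁻¹ = 1 := congrArg Subtype.val h1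
    have h3 := congrArg Subtype.val (mul_inv_eq_one.1 h2)
    rwa [MulAut.conjNormal_apply] at h3
  · intro hx
    refine MulEquiv.ext fun q => ?_
    induction q using QuotientGroup.induction_on with | H k => ?_
    rw [hφ, MulAut.one_apply]
    congr 1
    refine Subtype.ext ?_
    rw [MulAut.conjNormal_apply]
    exact conj_eq_of_commute (Subgroup.mem_centralizer_iff.1 hx k k.2).symm

/-- The centraliser in the derived group of a product of two commuting members. -/
theorem pair_product_centralizer (S : Setting24 D) (hodd : ∀ y ∈ D, y ∉ commutator G)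
    (hidx : (commutator G).index = 2) {d b : G} (hd : d ∈ D) (hb : b ∈ nb D d) (K CL : Subgroup G)
    (hK : K = commutator G ⊓ Subgroup.centralizer ({d, b} : Set G))
    (hCL : CL = commutator G ⊓ Subgroup.centralizer ({d * b} : Set G))
    [hn : ((Subgroup.zpowers (d * b)).subgroupOf CL).Normal] :
    Cfsg.IsQuasisimple ↥K ∧ K = (Cfsg.generalizedFittingSubgroup ↥CL).map CL.subtype ∧ K ≤ CL ∧
      (K.subgroupOf CL).index = 2 ∧ d * b ∈ K ∧
      Nonempty (↥CL ⧸ (Subgroup.zpowers (d * b)).subgroupOf CL ≃* MulAut Cfsg.Spor.Fi22) := by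
  have hW := S.weak
  obtain ⟨f, -⟩ := exists_equiv S hodd hidx hd hb
  rw [← hK] at f
  have hjK : d * b ∈ K := hK ▸ ⟨(Subgroup.mul_mem_iff_of_index_two hidx).2 (iff_of_false (hodd d hd) (hodd b hb.1)),
    mem_pair_centralizer.2 ⟨(Commute.refl d).mul_left hb.2.2.symm, hb.2.2.mul_left (Commute.refl b)⟩⟩
  have hj1 : d * b ≠ 1 := fun e => hb.2.1 (by rw [← hW.inv hd]; exact (inv_eq_of_mul_eq_one_right e).symm)
  have hKmem : ∀ {k}, k ∈ K → k ∈ commutator G ∧ k ∈ Subgroup.centralizer ({d, b} : Set G) := fun {k} h =>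
    Subgroup.mem_inf.1 (hK ▸ h)
  have hCmem' : ∀ {x}, x ∈ CL → x ∈ commutator G ∧ x ∈ Subgroup.centralizer ({d * b} : Set G) := fun {x} h =>
    Subgroup.mem_inf.1 (hCL ▸ h)
  have hcomm : ∀ {k}, k ∈ K → Commute (d * b) k := fun {k} hk => by
    obtain ⟨h1, h2⟩ := mem_pair_centralizer.1 (hKmem hk).2
    exact h1.symm.mul_left h2.symm
  have hle : K ≤ CL := fun k hk => hCL ▸ ⟨(hKmem hk).1,
    Subgroup.mem_centralizer_singleton_iff.2 (hcomm hk).symm.eq⟩
  have hCmem : ∀ {x}, x ∈ CL → x ∈ commutator G ∧ Commute x (d * b) := fun {x} hx =>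
    ⟨(hCmem' hx).1, Subgroup.mem_centralizer_singleton_iff.1 (hCmem' hx).2⟩
  have hKfix : ∀ {x}, x ∈ CL → (x ∈ K ↔ x * d * x⁻¹ = d) := fun {x} hx => by
    constructor
    · exact fun h => conj_eq_of_commute (mem_pair_centralizer.1 (hKmem h).2).1
    · intro h
      rcases fix_or_swap S hd hb (hCmem hx).2 with ⟨e1, e2⟩ | ⟨e1, e2⟩
      · exact hK ▸ ⟨(hCmem hx).1, mem_pair_centralizer.2 ⟨mul_inv_eq_iff_eq_mul.1 e1, mul_inv_eq_iff_eq_mul.1 e2⟩⟩
      · exact absurd (e1.symm.trans h) hb.2.1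
  have hQ : IsQuasisimple ↥K :=
    (Components.isQuasisimple_congr f).2 ((S.quot hd).quasisimple (qd_mem hb))
  have hcent : ∀ {x}, x ∈ CL → (∀ k ∈ K, Commute x k) → x ∈ K := fun {x} hx hc =>
    (hKfix hx).2 (fixes_of_centralizes S hodd hidx hd hb (hCmem hx).1 (hCmem hx).2 (hK ▸ hc)).1
  have hindex : (K.subgroupOf CL).index = 2 := by
    obtain ⟨s, hs, s1, s2⟩ := exists_swap S hodd hidx hd hb
    have hsC : s ∈ CL := hCL ▸ ⟨hs, Subgroup.mem_centralizer_singleton_iff.2 (mul_inv_eq_iff_eq_mul.1 (by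
      rw [show s * (d * b) * s⁻¹ = s * d * s⁻¹ * (s * b * s⁻¹) by group, s1, s2]; exact hb.2.2.eq.symm))⟩
    rw [Subgroup.index_eq_two_iff]
    refine ⟨⟨s, hsC⟩, fun x => ?_⟩
    have h1 : x * ⟨s, hsC⟩ ∈ K.subgroupOf CL ↔ (x : G) * b * (x : G)⁻¹ = d := by
      rw [Subgroup.mem_subgroupOf, Subgroup.coe_mul, hKfix (mul_mem x.2 hsC),
        show (x : G) * s * d * ((x : G) * s)⁻¹ = (x : G) * (s * d * s⁻¹) * (x : G)⁻¹ by group, s1]
    rcases fix_or_swap S hd hb (hCmem x.2).2 with ⟨e1, e2⟩ | ⟨e1, e2⟩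
    · exact Or.inr ⟨Subgroup.mem_subgroupOf.2 ((hKfix x.2).2 e1), fun h => hb.2.1 (e2.symm.trans (h1.1 h))⟩
    · exact Or.inl ⟨h1.2 e2, fun h => hb.2.1 (e1.symm.trans ((hKfix x.2).1 (Subgroup.mem_subgroupOf.1 h)))⟩
  haveI hKn : (K.subgroupOf CL).Normal := Subgroup.normal_of_index_eq_two hindex
  have hQ' : IsQuasisimple ↥(K.subgroupOf CL) :=
    (Components.isQuasisimple_congr (Subgroup.subgroupOfEquivOfLe hle)).2 hQ
  have hcomp : IsComponent (K.subgroupOf CL) := ⟨hKn.isSubnormal, hQ'⟩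
  have hC' : Subgroup.centralizer (K.subgroupOf CL : Set ↥CL) ≤ K.subgroupOf CL := fun x hx =>
    Subgroup.mem_subgroupOf.2 (hcent x.2 fun k hk =>
      (congrArg Subtype.val (Subgroup.mem_centralizer_iff.1 hx ⟨k, hle hk⟩ (Subgroup.mem_subgroupOf.2 hk))).symm)
  have hF : fittingSubgroup ↥CL ≤ K.subgroupOf CL := by
    haveI := Base.fittingSubgroup_normal' ↥CL
    refine le_trans ?_ hC'
    rw [← Subgroup.commutator_eq_bot_iff_le_centralizer, Subgroup.commutator_comm]
    exact Components.component_commutator_eq_bot_of_isSolvable hcomp (Subgroup.Normal.isSubnormal inferInstance)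
      Components.isSolvable_fitting
  have hfs : generalizedFittingSubgroup ↥CL = K.subgroupOf CL :=
    le_antisymm (Components.fstar_le_of_fitting_le hKn.isSubnormal hF hC')
      ((Components.component_le_layer hcomp).trans Components.layer_le_fstar)
  refine ⟨hQ, by rw [hfs, Subgroup.map_subgroupOf_eq_of_le hle], hle, hindex, hjK, ?_⟩
  have T : TypeM22.Setting (Dq (Dq D d) (qd D d b)) := (S.quot hd).quot (qd_mem hb)
  obtain ⟨e22, -⟩ := TypeM22.Unique.exists_iso_fi22 ⟨T.cls.ts, T.cls.conj, T.cls.gen⟩ T.prim T.typ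
  obtain ⟨E⟩ : Nonempty ((↥(K.subgroupOf CL) ⧸ Subgroup.center ↥(K.subgroupOf CL)) ≃* Cfsg.Spor.Fi22) :=
    ⟨(CfsgLib.Spor.FischerTypes.centerQuotCongr ((Subgroup.subgroupOfEquivOfLe hle).trans f)).trans e22⟩
  obtain ⟨ψ, hψ'⟩ := exists_aut_hom (K.subgroupOf CL) (Group.isPerfect_def.1 hQ'.1) E
  have hψ : ψ.ker = (Subgroup.zpowers (d * b)).subgroupOf CL := by
    rw [hψ']
    ext x
    rw [Subgroup.mem_subgroupOf, Subgroup.mem_centralizer_iff]
    constructor
    · intro hx
      have hfix : ∀ k ∈ K, Commute (x : G) k := fun k hk =>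
        (congrArg Subtype.val (hx ⟨k, hle hk⟩ (Subgroup.mem_subgroupOf.2 hk))).symm
      rcases center_cases_pair S hodd hidx hd hb (hK ▸ hcent x.2 hfix) (hK ▸ hfix) with r | r <;> rw [r]
      exacts [one_mem _, Subgroup.mem_zpowers _]
    · intro hx k hk
      obtain ⟨i, hi⟩ := Subgroup.mem_zpowers_iff.1 hx
      refine Subtype.ext ?_
      rw [Subgroup.coe_mul, Subgroup.coe_mul, ← hi]
      exact ((hcomm (Subgroup.mem_subgroupOf.1 hk)).zpow_left i).symm.eq
  haveI : Finite Cfsg.Spor.Fi22 := CfsgLib.Spor.Fi22.finite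
  refine ⟨MulEquiv.ofBijective (QuotientGroup.lift _ ψ hψ.ge) ((Nat.bijective_iff_injective_and_card _).2 ⟨?_, ?_⟩)⟩
  · rw [← MonoidHom.ker_eq_bot_iff, eq_bot_iff]
    intro q hq
    induction q using QuotientGroup.induction_on with | H x => ?_
    rw [MonoidHom.mem_ker, QuotientGroup.lift_mk] at hq
    exact (QuotientGroup.eq_one_iff x).2 (hψ ▸ hq)
  · have hord : orderOf (d * b) = 2 := by
      refine orderOf_eq_prime ?_ hj1
      rw [pow_two, hb.2.2.symm.mul_mul_mul_comm, hW.sq d hd, hW.sq b hb.1, mul_one]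
    have hjZ : Nat.card ((Subgroup.zpowers (d * b)).subgroupOf CL) = 2 := by
      rw [Nat.card_congr (Subgroup.subgroupOfEquivOfLe (Subgroup.zpowers_le.2 (hle hjK))).toEquiv,
        Nat.card_zpowers, hord]
    have hM : Nat.card ↥(K.subgroupOf CL) = 2 * Nat.card Cfsg.Spor.Fi22 := by
      rw [Nat.card_congr (((Subgroup.subgroupOfEquivOfLe hle).trans f).toEquiv), (S.quot hd).card_closure (qd_mem hb),
        CfsgLib.Spor.Fi22.natCard]
      norm_num
    have h1 := (K.subgroupOf CL).card_mul_index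
    rw [hindex, hM, Subgroup.card_eq_card_quotient_mul_card_subgroup ((Subgroup.zpowers (d * b)).subgroupOf CL),
      hjZ] at h1
    rw [card_mulAut_fi22]
    omega

end CfsgLib.KnownB.M24PairCent
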