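import Cfsg.Agent.Lib.KnownB.M24PairCent.Centralizer

/-!
Two commuting members of a group of type M(24): their joint centraliser in the derived group.
-/

set_option autoImplicit false

namespace CfsgLib.KnownB.M24PairCent

open Cfsg CfsgLib.ThreeTransp CfsgLib.Involutions
open CfsgLib.KnownB.TypeM22 CfsgLib.KnownB.TypeM23 CfsgLib.KnownB.TypeM24.Unique
open scoped commutatorElement

universe u

variable {G : Type u} [Group G] [Finite G] {D : Set G}

theorem mem_pair_centralizer {d b x : G} :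
    x ∈ Subgroup.centralizer ({d, b} : Set G) ↔ Commute x d ∧ Commute x b :=
  ⟨fun h => ⟨(Subgroup.mem_centralizer_iff.1 h d (by simp)).symm, (Subgroup.mem_centralizer_iff.1 h b (by simp)).symm⟩,
    fun h => Subgroup.mem_centralizer_iff.2 (by rintro z (rfl | rfl); exacts [h.1.symm.eq, h.2.symm.eq])⟩

/-- The joint centraliser of two commuting members is generated by their common partners. -/
theorem centralizer_pair (S : Setting24 D) (hodd : ∀ y ∈ D, y ∉ commutator G) {d b : G} (hd : d ∈ D)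
    (hb : b ∈ nb D d) : Subgroup.centralizer ({d, b} : Set G) = Subgroup.closure (pnb D d b) := by
  refine le_antisymm (fun x hx => ?_) pnb_le_centralizer
  obtain ⟨hxd, hxb⟩ := mem_pair_centralizer.1 hx
  obtain ⟨hxc, hq⟩ := qd_mem_centralizer S hd hb hxd hxb
  obtain ⟨p, hp, hpe⟩ := pair_closure S hd hb hq
  rcases S.center_cases hd (mul_mem (inv_mem (pnb_le hp)) hxc)
    (by rw [qd_mul (inv_mem (pnb_le hp)) hxc, qd_inv (pnb_le hp), hpe, inv_mul_cancel]) with r | r
  · exact inv_mul_eq_one.1 r ▸ hp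
  · rw [show x = p * d by rw [← r, mul_inv_cancel_left]]
    exact mul_mem hp (self_mem_pnb S hodd hd hb)

/-- The joint centraliser in the derived group is the double cover of the centraliser in the quotient. -/
theorem exists_equiv (S : Setting24 D) (hodd : ∀ y ∈ D, y ∉ commutator G) (hidx : (commutator G).index = 2)
    {d b : G} (hd : d ∈ D) (hb : b ∈ nb D d) :
    ∃ f : ↥(commutator G ⊓ Subgroup.centralizer ({d, b} : Set G)) ≃*
        ↥(Subgroup.closure (nb (Dq D d) (qd D d b))), ∀ x, (f x : Qd D d) = qd D d x := by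
  have hmem : ∀ x : ↥(commutator G ⊓ Subgroup.centralizer ({d, b} : Set G)),
      (x : G) ∈ Subgroup.closure (nb D d) ∧ qd D d x ∈ Subgroup.closure (nb (Dq D d) (qd D d b)) := fun x =>
    qd_mem_centralizer S hd hb (mem_pair_centralizer.1 x.2.2).1 (mem_pair_centralizer.1 x.2.2).2
  obtain ⟨f, hf⟩ : ∃ f : ↥(commutator G ⊓ Subgroup.centralizer ({d, b} : Set G)) →*
      ↥(Subgroup.closure (nb (Dq D d) (qd D d b))), ∀ x, (f x : Qd D d) = qd D d x :=
    ⟨MonoidHom.mk' (fun x => ⟨qd D d x, (hmem x).2⟩) fun x y => Subtype.ext (qd_mul (hmem x).1 (hmem y).1),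
      fun _ => rfl⟩
  refine ⟨MulEquiv.ofBijective f ⟨fun x y e => ?_, fun k => ?_⟩, hf⟩
  · have e' : qd D d (x : G) = qd D d y := by rw [← hf, ← hf, e]
    have hxy : (x : G)⁻¹ * y ∈ commutator G := mul_mem (inv_mem x.2.1) y.2.1
    rcases S.center_cases hd (mul_mem (inv_mem (hmem x).1) (hmem y).1)
      (by rw [qd_mul (inv_mem (hmem x).1) (hmem y).1, qd_inv (hmem x).1, e', inv_mul_cancel]) with r | r
    · exact Subtype.ext (inv_mul_eq_one.1 r)
    · exact absurd (r ▸ hxy) (hodd d hd)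
  · obtain ⟨p, hp, hpe⟩ := pair_closure S hd hb k.2
    have hdP := self_mem_pnb S hodd hd hb
    obtain ⟨x, hxL, hxP, hxe⟩ : ∃ x, x ∈ commutator G ∧ x ∈ Subgroup.closure (pnb D d b) ∧ qd D d x = (k : Qd D d) := by
      by_cases hL : p ∈ commutator G
      · exact ⟨p, hL, hp, hpe⟩
      · refine ⟨p * d, (Subgroup.mul_mem_iff_of_index_two hidx).2 (iff_of_false hL (hodd d hd)), mul_mem hp hdP, ?_⟩
        rw [qd_mul (pnb_le hp) (pnb_le hdP), S.qd_self hd, mul_one, hpe]
    exact ⟨⟨x, hxL, pnb_le_centralizer hxP⟩, Subtype.ext ((hf _).trans hxe)⟩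

/-- The centre of the joint centraliser in the derived group. -/
theorem center_cases_pair (S : Setting24 D) (hodd : ∀ y ∈ D, y ∉ commutator G) (hidx : (commutator G).index = 2)
    {d b x : G} (hd : d ∈ D) (hb : b ∈ nb D d)
    (hx : x ∈ commutator G ⊓ Subgroup.centralizer ({d, b} : Set G))
    (hc : ∀ k ∈ commutator G ⊓ Subgroup.centralizer ({d, b} : Set G), Commute x k) : x = 1 ∨ x = d * b := by
  obtain ⟨f, hf⟩ := exists_equiv S hodd hidx hd hb
  have hz : f ⟨x, hx⟩ ∈ Subgroup.center _ := Subgroup.mem_center_iff.2 fun w => by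
    obtain ⟨k, rfl⟩ := f.surjective w
    rw [← map_mul, ← map_mul]
    exact congrArg f (Subtype.ext (hc k k.2).symm.eq)
  obtain ⟨hxd, hxb⟩ := mem_pair_centralizer.1 hx.2
  have hxc := (qd_mem_centralizer S hd hb hxd hxb).1
  have hq : qd D d x = 1 ∨ qd D d x = qd D d b := by
    have h := (S.quot hd).center_cases (qd_mem hb) (f ⟨x, hx⟩).2
      ((qd_mk _).trans ((QuotientGroup.eq_one_iff _).2 hz))
    rwa [hf] at h
  rcases hq with e | e
  · rcases S.center_cases hd hxc e with r | r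
    · exact Or.inl r
    · exact absurd (r ▸ hx.1) (hodd d hd)
  · rcases S.center_cases hd (mul_mem hxc (mem_H hb))
      (by rw [qd_mul hxc (mem_H hb), e, (S.quot hd).weak.sq _ (qd_mem hb)]) with r | r
    · refine absurd ?_ (hodd b hb.1)
      rw [show b = x from ((mul_eq_one_iff_eq_inv.1 r).trans (S.weak.inv hb.1)).symm]
      exact hx.1
    · refine Or.inr ?_
      rw [← r, mul_assoc, S.weak.sq b hb.1, mul_one]

/-- An element commuting with the product of two commuting members fixes or exchanges them. -/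
theorem fix_or_swap (S : Setting24 D) {d b x : G} (hd : d ∈ D) (hb : b ∈ nb D d) (hx : Commute x (d * b)) :
    (x * d * x⁻¹ = d ∧ x * b * x⁻¹ = b) ∨ (x * d * x⁻¹ = b ∧ x * b * x⁻¹ = d) := by
  have hne : x * d * x⁻¹ ≠ x * b * x⁻¹ := fun e => hb.2.1 (mul_left_cancel (mul_right_cancel e)).symm
  have hcc : Commute (x * d * x⁻¹) (x * b * x⁻¹) := (commute_conj_iff x).2 hb.2.2
  have hp : x * d * x⁻¹ * (x * b * x⁻¹) = d * b := by
    rw [show x * d * x⁻¹ * (x * b * x⁻¹) = x * (d * b) * x⁻¹ by group, hx.eq, mul_inv_cancel_right]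
  have key := S.cls.product_unique S.prim S.partners (m := 2) (by norm_num)
    (l := [x * d * x⁻¹, x * b * x⁻¹]) (l' := [d, b]) (j := d * b)
    ⟨by simp [hne], rfl, by simp [S.cls.conj x d hd, S.cls.conj x b hb.1], by simp [hcc, hcc.symm], by simp [hp]⟩
    ⟨by simp [Ne.symm hb.2.1], rfl, by simp [hd, hb.1], by simp [hb.2.2, hb.2.2.symm], by simp⟩
  have h1 := (key (x * d * x⁻¹)).1 (by simp)
  have h2 := (key (x * b * x⁻¹)).1 (by simp)
  simp only [List.mem_cons, List.not_mem_nil, or_false] at h1 h2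
  rcases h1 with h1 | h1 <;> rcases h2 with h2 | h2
  · exact absurd (h1.trans h2.symm) hne
  · exact Or.inl ⟨h1, h2⟩
  · exact Or.inr ⟨h1, h2⟩
  · exact absurd (h1.trans h2.symm) hne

/-- Some element of the derived group exchanges two commuting members. -/
theorem exists_swap (S : Setting24 D) (hodd : ∀ y ∈ D, y ∉ commutator G) (hidx : (commutator G).index = 2)
    {d b : G} (hd : d ∈ D) (hb : b ∈ nb D d) :
    ∃ s ∈ commutator G, s * d * s⁻¹ = b ∧ s * b * s⁻¹ = d := by
  obtain ⟨g, hg⟩ := S.cls.trans d hd b hb.1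
  have he : g * b * g⁻¹ ∈ nb D b := by
    have := S.weak.nb_conj g hb
    rwa [hg] at this
  obtain ⟨k, hk, hke⟩ := S.cls.orb_nb S.prim hb.1 he (nb_symm hd hb)
  have h1 : k * g * d * (k * g)⁻¹ = b := by
    rw [show k * g * d * (k * g)⁻¹ = k * (g * d * g⁻¹) * k⁻¹ by group, hg,
      conj_eq_of_commute (commute_closure_nb hk)]
  have h2 : k * g * b * (k * g)⁻¹ = d := by
    rw [show k * g * b * (k * g)⁻¹ = k * (g * b * g⁻¹) * k⁻¹ by group, hke]
  by_cases hL : k * g ∈ commutator G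
  · exact ⟨k * g, hL, h1, h2⟩
  · refine ⟨k * g * d, (Subgroup.mul_mem_iff_of_index_two hidx).2 (iff_of_false hL (hodd d hd)), ?_, ?_⟩
    · rw [show k * g * d * d * (k * g * d)⁻¹ = k * g * d * (k * g)⁻¹ by group, h1]
    · rw [show k * g * d * b * (k * g * d)⁻¹ = k * g * (d * b * d⁻¹) * (k * g)⁻¹ by group,
        conj_eq_of_commute hb.2.2, h2]

/-- Nothing exchanging the two members centralises their joint centraliser in the derived group. -/
theorem fixes_of_centralizes (S : Setting24 D) (hodd : ∀ y ∈ D, y ∉ commutator G)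
    (hidx : (commutator G).index = 2) {d b x : G} (hd : d ∈ D) (hb : b ∈ nb D d) (hxL : x ∈ commutator G)
    (hxj : Commute x (d * b))
    (hc : ∀ k ∈ commutator G ⊓ Subgroup.centralizer ({d, b} : Set G), Commute x k) :
    x * d * x⁻¹ = d ∧ x * b * x⁻¹ = b := by
  refine (fix_or_swap S hd hb hxj).resolve_right ?_
  rintro ⟨e1, e2⟩
  have hW := S.weak
  have hxx : x * x ∈ commutator G ⊓ Subgroup.centralizer ({d, b} : Set G) := by
    refine ⟨mul_mem hxL hxL, mem_pair_centralizer.2 ⟨mul_inv_eq_iff_eq_mul.1 ?_, mul_inv_eq_iff_eq_mul.1 ?_⟩⟩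
    · rw [show x * x * d * (x * x)⁻¹ = x * (x * d * x⁻¹) * x⁻¹ by group, e1, e2]
    · rw [show x * x * b * (x * x)⁻¹ = x * (x * b * x⁻¹) * x⁻¹ by group, e2, e1]
  have hx2 : ∀ z ∈ pnb D d b, x * (x * z * x⁻¹) * x⁻¹ = z := fun z hz => by
    rw [show x * (x * z * x⁻¹) * x⁻¹ = x * x * z * (x * x)⁻¹ by group]
    refine conj_eq_of_commute ?_
    rcases center_cases_pair S hodd hidx hd hb hxx (fun k hk => (hc k hk).mul_left (hc k hk)) with r | r <;> rw [r]
    · exact Commute.one_left z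
    · exact hz.1.2.2.mul_left hz.2.2.2
  have hximg : ∀ z ∈ pnb D d b, x * z * x⁻¹ ∈ pnb D d b := fun z hz => by
    refine ⟨⟨S.cls.conj x z hz.1.1, fun e => ?_, ?_⟩, S.cls.conj x z hz.1.1, fun e => ?_, ?_⟩
    · exact hz.2.2.1 (mul_left_cancel (mul_right_cancel (e.trans e2.symm)))
    · rw [← e2]; exact (commute_conj_iff x).2 hz.2.2.2
    · exact hz.1.2.1 (mul_left_cancel (mul_right_cancel (e.trans e1.symm)))
    · rw [← e1]; exact (commute_conj_iff x).2 hz.1.2.2
  obtain ⟨c, hcdef⟩ : ∃ c : G → G, ∀ z, c z = z * (x * z * x⁻¹) := ⟨fun z => z * (x * z * x⁻¹), fun _ => rfl⟩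
  have hcK : ∀ {y z}, y ∈ pnb D d b → z ∈ pnb D d b →
      y * z ∈ commutator G ⊓ Subgroup.centralizer ({d, b} : Set G) := fun {y z} hy hz =>
    ⟨(Subgroup.mul_mem_iff_of_index_two hidx).2 (iff_of_false (hodd y hy.1.1) (hodd z hz.1.1)),
      mul_mem (pnb_le_centralizer (Subgroup.subset_closure hy)) (pnb_le_centralizer (Subgroup.subset_closure hz))⟩
  have hconst : ∀ {y z}, y ∈ pnb D d b → z ∈ pnb D d b → c y = c z := fun {y z} hy hz => by
    have hzx := hW.inv (hximg z hz).1.1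
    have h1 : x * y * x⁻¹ * (x * z * x⁻¹) = y * z := by
      rw [show x * y * x⁻¹ * (x * z * x⁻¹) = x * (y * z) * x⁻¹ by group, conj_eq_of_commute (hc _ (hcK hy hz))]
    rw [hcdef, hcdef, eq_mul_inv_iff_mul_eq.2 h1, hzx, mul_assoc y z, hW.mul_mul_self hy.1.1]
  have hinv : ∀ z ∈ pnb D d b, c z = x * z * x⁻¹ * z := fun z hz => by
    have hk : c z ∈ commutator G ⊓ Subgroup.centralizer ({d, b} : Set G) := hcdef z ▸ hcK hz (hximg z hz)
    have h1 : x * c z * x⁻¹ = x * z * x⁻¹ * z := by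
      rw [hcdef, show x * (z * (x * z * x⁻¹)) * x⁻¹ = x * z * x⁻¹ * (x * (x * z * x⁻¹) * x⁻¹) by group, hx2 z hz]
    rwa [conj_eq_of_commute (hc _ hk)] at h1
  have hPd := self_mem_pnb S hodd hd hb
  have hne : (pnb D d b).Nonempty := by
    rcases (pnb D d b).eq_empty_or_nonempty with h | h
    · rw [h, Subgroup.closure_empty, Subgroup.mem_bot] at hPd
      exact absurd (hPd ▸ one_mem (commutator G)) (hodd d hd)
    · exact h
  obtain ⟨y, hy⟩ := hne
  have hcy : ∀ z ∈ pnb D d b, Commute (c y) z := fun z hz => by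
    rw [hconst hy hz]
    show c z * z = z * c z
    conv_lhs => rw [hinv z hz, mul_assoc, hW.sq z hz.1.1, mul_one]
    rw [hcdef, hW.mul_mul_self hz.1.1]
  have hk : c y ∈ commutator G ⊓ Subgroup.centralizer ({d, b} : Set G) := hcdef y ▸ hcK hy (hximg y hy)
  have hcP : ∀ w ∈ Subgroup.closure (pnb D d b), Commute (c y) w := fun w hw =>
    (Subgroup.mem_centralizer_singleton_iff.1
      ((Subgroup.closure_le _).2 (fun z hz => Subgroup.mem_centralizer_singleton_iff.2 (hcy z hz).symm.eq) hw)).symm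
  rcases center_cases_pair S hodd hidx hd hb hk (fun k hk => hcP k (centralizer_pair S hodd hd hb ▸ hk.2)) with r | r
  · have hfix : ∀ z ∈ pnb D d b, Commute x z := fun z hz => mul_inv_eq_iff_eq_mul.1 (by
      have h1 : z * (x * z * x⁻¹) = 1 := by rw [← hcdef, ← hconst hy hz, r]
      rw [← inv_mul_eq_one.1 (show z⁻¹ * (x * z * x⁻¹) = 1 by rwa [hW.inv hz.1.1])])
    have hxd : Commute x d :=
      (Subgroup.mem_centralizer_singleton_iff.1
        ((Subgroup.closure_le _).2 (fun z hz => Subgroup.mem_centralizer_singleton_iff.2 (hfix z hz).symm.eq) hPd)).symm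
    exact hb.2.1 (by rw [← e1, conj_eq_of_commute hxd])
  · rw [hcdef] at r
    have hyx : Commute y (x * y * x⁻¹) := by
      have h1 : Commute y (y * (x * y * x⁻¹)) := by rw [r]; exact hy.1.2.2.symm.mul_right hy.2.2.2.symm
      have h2 := (Commute.refl y).mul_right h1
      rwa [hW.mul_mul_self hy.1.1] at h2
    have hne' : y ≠ x * y * x⁻¹ := fun e => by
      rw [← e, hW.sq y hy.1.1] at r
      exact hb.2.1 (by rw [← hW.inv hd, eq_comm, inv_eq_iff_mul_eq_one, r])
    have key := S.cls.product_unique S.prim S.partners (m := 2) (by norm_num)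
      (l := [y, x * y * x⁻¹]) (l' := [d, b]) (j := d * b)
      ⟨by simp [hne'], rfl, by simp [hy.1.1, (hximg y hy).1.1], by simp [hyx, hyx.symm], by simp [r]⟩
      ⟨by simp [Ne.symm hb.2.1], rfl, by simp [hd, hb.1], by simp [hb.2.2, hb.2.2.symm], by simp⟩
    have h1 := (key y).1 (by simp)
    simp only [List.mem_cons, List.not_mem_nil, or_false] at h1
    exact h1.elim hy.1.2.1 hy.2.2.1

end CfsgLib.KnownB.M24PairCent
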